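import Mathlib
import Cfsg.Agent.S2261

/-!
Element orders of `PGL(2,q)`, `q` odd, from `(2A - t)² = t² - 4d`.
-/

set_option autoImplicit false
set_option linter.unusedSectionVars false

namespace CfsgLib.PGL2Spectrum

open Matrix

section

variable {F : Type*} [Field F]

local notation "M2" => Matrix (Fin 2) (Fin 2) F

theorem two_mul_sub_sq (A : M2) :
    ((2 : F) • A - A.trace • (1 : M2)) * ((2 : F) • A - A.trace • (1 : M2)) =
      (A.trace ^ 2 - 4 * A.det) • (1 : M2) := by
  ext i j
  fin_cases i <;> fin_cases j <;>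
    simp [Matrix.mul_apply, Fin.sum_univ_two, Matrix.trace_fin_two, Matrix.det_fin_two] <;> ring

theorem pow_odd (A : M2) (n : ℕ) :
    ((2 : F) • A - A.trace • (1 : M2)) ^ (2 * n + 1) =
      (A.trace ^ 2 - 4 * A.det) ^ n • ((2 : F) • A - A.trace • (1 : M2)) := by
  rw [pow_succ, pow_mul, pow_two, two_mul_sub_sq, smul_pow, one_pow, smul_mul_assoc, one_mul]

/-- The `p`-th power of `2A - t`. -/
theorem pow_char_pow (p : ℕ) [hp : Fact p.Prime] [CharP F p] (A : M2) (k : ℕ) :
    ((2 : F) • A - A.trace • (1 : M2)) ^ p ^ k =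
      (2 : F) ^ p ^ k • A ^ p ^ k - A.trace ^ p ^ k • (1 : M2) := by
  haveI : CharP M2 p := charP_of_injective_algebraMap (algebraMap F M2).injective p
  rw [sub_pow_char_pow_of_commute _ _ (((Commute.one_right A).smul_left _).smul_right _), smul_pow, smul_pow, one_pow]

variable [Fintype F]

/-- The three cases for a matrix of non-zero determinant. -/
theorem pow_cases (p : ℕ) [hp : Fact p.Prime] [CharP F p] (h2 : (2 : F) ≠ 0) (A : M2) (hA : A.det ≠ 0) :
    (∃ a : F, A ^ (Fintype.card F - 1) = a • (1 : M2)) ∨ (∃ a : F, A ^ (Fintype.card F + 1) = a • (1 : M2)) ∨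
      (∃ a : F, A ^ p = a • (1 : M2)) := by
  obtain ⟨f, -, hq⟩ := FiniteField.card F p
  have hp2 : p ≠ 2 := fun e => h2 (by subst e; exact CharP.cast_eq_zero F 2)
  obtain ⟨n, hn⟩ := hp.out.odd_of_ne_two hp2
  set M := (2 : F) • A - A.trace • (1 : M2) with hM
  set D := A.trace ^ 2 - 4 * A.det with hD
  by_cases hD0 : D = 0
  · refine Or.inr (Or.inr ⟨(2 ^ p)⁻¹ * A.trace ^ p, ?_⟩)
    have h1 := pow_char_pow p A 1
    rw [pow_one] at h1
    have h0 : M ^ p = 0 := by
      have hn0 : n ≠ 0 := by have := hp.out.two_le; omega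
      rw [hn, hM, pow_odd, ← hD, hD0, zero_pow hn0, zero_smul]
    rw [← hM, h0] at h1
    rw [mul_smul, ← sub_eq_zero.mp h1.symm, smul_smul, inv_mul_cancel₀ (pow_ne_zero _ h2), one_smul]
  · have h1 := pow_char_pow p A (f : ℕ)
    rw [← hq, FiniteField.pow_card, FiniteField.pow_card, ← hM] at h1
    obtain ⟨m, hm⟩ : ∃ m, Fintype.card F = 2 * m + 1 := by
      rw [hq]; exact (hp.out.odd_of_ne_two hp2).pow
    have hm0 : D ^ (m * 2) = 1 := by
      rw [show m * 2 = Fintype.card F - 1 by omega]
      exact FiniteField.pow_card_sub_one_eq_one D hD0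
    rw [hm, hM, pow_odd, ← hD, ← hm] at h1
    rw [pow_mul, ← sub_eq_zero, show (D ^ m) ^ 2 - 1 = (D ^ m - 1) * (D ^ m + 1) by ring] at hm0
    rcases mul_eq_zero.mp hm0 with e | e
    · left
      rw [sub_eq_zero.mp e, one_smul] at h1
      have h3 : A ^ Fintype.card F = A := (smul_right_injective M2 h2 (sub_left_inj.mp h1)).symm
      refine ⟨1, ?_⟩
      rw [one_smul]
      have hu : IsUnit A := (Matrix.isUnit_iff_isUnit_det A).mpr (Ne.isUnit hA)
      refine hu.mul_left_cancel ?_
      rw [← pow_succ', Nat.sub_add_cancel Fintype.card_pos, h3, mul_one]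
    · right; left
      rw [eq_neg_of_add_eq_zero_left e, neg_one_smul, neg_sub, eq_sub_iff_add_eq, sub_add_eq_add_sub,
        sub_eq_iff_eq_add] at h1
      refine ⟨A.det, ?_⟩
      have h3 : A ^ Fintype.card F = A.trace • (1 : M2) - A := by
        refine smul_right_injective M2 h2 ?_
        change (2 : F) • A ^ Fintype.card F = (2 : F) • (A.trace • (1 : M2) - A)
        rw [smul_sub, two_smul F (A.trace • (1 : M2)), eq_sub_iff_add_eq, ← h1]
      rw [pow_succ, h3]
      ext i j
      fin_cases i <;> fin_cases j <;>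
        simp [Matrix.mul_apply, Fin.sum_univ_two, Matrix.trace_fin_two, Matrix.det_fin_two] <;> ring

end

theorem exists_dvd {G : Type*} [Group G] [Finite G] {m n : ℕ} (hm : ∃ g : G, orderOf g = m) (hn : n ∣ m) :
    ∃ g : G, orderOf g = n := by
  obtain ⟨g, hg⟩ := hm
  obtain ⟨c, rfl⟩ := hn
  refine ⟨g ^ c, ?_⟩
  have h0 : n * c ≠ 0 := hg ▸ (orderOf_pos g).ne'
  rw [orderOf_pow, hg, Nat.gcd_eq_right (dvd_mul_left c n), Nat.mul_div_cancel _ (Nat.pos_of_ne_zero (right_ne_zero_of_mul h0))]

variable {F : Type*} [Field F] [Fintype F]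

local notation "PGL" => GL (Fin 2) F ⧸ Subgroup.center (GL (Fin 2) F)

theorem mk_pow_eq_one {g : GL (Fin 2) F} {k : ℕ} {a : F} (h : (g : Matrix (Fin 2) (Fin 2) F) ^ k = a • 1) :
    (QuotientGroup.mk g : PGL) ^ k = 1 := by
  rw [← QuotientGroup.mk_pow, QuotientGroup.eq_one_iff, Subgroup.mem_center_iff]
  intro x
  refine Units.ext ?_
  push_cast
  rw [h, smul_mul_assoc, one_mul, mul_smul_comm, mul_one]

/-- The element orders of `PGL(2,q)`, `q` odd. -/
theorem pgl_orders (p : ℕ) [hp : Fact p.Prime] [CharP F p] (h2 : (2 : F) ≠ 0) (n : ℕ) :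
    (∃ x : PGL, orderOf x = n) ↔ n ∣ Fintype.card F - 1 ∨ n ∣ Fintype.card F + 1 ∨ n = p := by
  classical
  obtain ⟨f, -, hq⟩ := FiniteField.card F p
  constructor
  · rintro ⟨x, rfl⟩
    obtain ⟨g, rfl⟩ := QuotientGroup.mk_surjective x
    rcases pow_cases p h2 (g : Matrix (Fin 2) (Fin 2) F) (g.isUnit.map (Matrix.detMonoidHom)).ne_zero with ⟨a, h⟩ | ⟨a, h⟩ | ⟨a, h⟩
    · exact Or.inl (orderOf_dvd_of_pow_eq_one (mk_pow_eq_one h))
    · exact Or.inr (Or.inl (orderOf_dvd_of_pow_eq_one (mk_pow_eq_one h)))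
    · rcases (Nat.dvd_prime hp.out).mp (orderOf_dvd_of_pow_eq_one (mk_pow_eq_one h)) with e | e
      · exact Or.inl (by rw [e]; exact one_dvd _)
      · exact Or.inr (Or.inr e)
  · rintro (h | h | rfl)
    · refine exists_dvd ?_ h
      obtain ⟨u, hu⟩ := IsCyclic.exists_ofOrder_eq_natCard (α := Fˣ)
      let g : GL (Fin 2) F := Matrix.GeneralLinearGroup.mkOfDetNeZero !![(u : F), 0; 0, 1] (by simp [Matrix.det_fin_two])
      refine ⟨QuotientGroup.mk g, ?_⟩
      rw [← Nat.card_eq_fintype_card, ← Nat.card_units, ← hu]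
      refine orderOf_eq_orderOf_iff.mpr fun k => ?_
      have hgk : ∀ j : ℕ, ((g ^ j : GL (Fin 2) F) : Matrix (Fin 2) (Fin 2) F) = !![(u : F) ^ j, 0; 0, 1] := fun j => by
        induction j with
        | zero => ext i l; fin_cases i <;> fin_cases l <;> simp
        | succ j ih =>
          rw [pow_succ, Units.val_mul, ih, show (g : Matrix (Fin 2) (Fin 2) F) = !![(u : F), 0; 0, 1] from rfl]
          ext i l
          fin_cases i <;> fin_cases l <;> simp [Matrix.mul_apply, Fin.sum_univ_two, pow_succ]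
      constructor
      · intro hk
        rw [← QuotientGroup.mk_pow, QuotientGroup.eq_one_iff, Subgroup.mem_center_iff] at hk
        have e := congrArg (fun y : GL (Fin 2) F => (y : Matrix (Fin 2) (Fin 2) F) 0 1)
          (hk (Matrix.GeneralLinearGroup.mkOfDetNeZero !![(1 : F), 1; 0, 1] (by simp [Matrix.det_fin_two])))
        simp only [Units.val_mul, hgk] at e
        simp [Matrix.GeneralLinearGroup.mkOfDetNeZero, Matrix.mul_apply, Fin.sum_univ_two] at e
        exact Units.ext (by simpa using e.symm)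
      · intro hk
        refine mk_pow_eq_one (a := 1) ?_
        rw [← Units.val_pow_eq_pow_val, hgk, ← Units.val_pow_eq_pow_val, hk]
        ext i l; fin_cases i <;> fin_cases l <;> simp
    · refine exists_dvd ?_ h
      obtain ⟨g, hg⟩ := (Cfsg.Agent.S2261.result (F := F) 2 (by norm_num)).2
      refine ⟨g, Nat.eq_of_mul_eq_mul_left (Nat.sub_pos_of_lt Fintype.one_lt_card) (hg.trans ?_)⟩
      rw [mul_comm, ← Nat.sq_sub_sq, one_pow]
    · refine exists_prime_orderOf_dvd_card' n ?_
      obtain ⟨g, hg⟩ : ∃ g : GL (Fin 2) F, g ≠ 1 ∧ ((g : Matrix (Fin 2) (Fin 2) F) ^ n = (1 : F) • 1) := by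
        refine ⟨Matrix.GeneralLinearGroup.mkOfDetNeZero !![(1 : F), 1; 0, 1] (by simp [Matrix.det_fin_two]), fun e => ?_, ?_⟩
        · have := congrArg (fun y : GL (Fin 2) F => (y : Matrix (Fin 2) (Fin 2) F) 0 1) e
          simp [Matrix.GeneralLinearGroup.mkOfDetNeZero] at this
        · have hk : ∀ j : ℕ, (!![(1 : F), 1; 0, 1] : Matrix (Fin 2) (Fin 2) F) ^ j = !![1, (j : F); 0, 1] := fun j => by
            induction j with
            | zero => ext i l; fin_cases i <;> fin_cases l <;> simp
            | succ j ih =>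
              rw [pow_succ, ih]
              ext i l
              fin_cases i <;> fin_cases l <;> simp [Matrix.mul_apply, Fin.sum_univ_two, add_comm]
          change (!![(1 : F), 1; 0, 1] : Matrix (Fin 2) (Fin 2) F) ^ n = _
          rw [hk, CharP.cast_eq_zero, one_smul]
          ext i l; fin_cases i <;> fin_cases l <;> simp
      have hne : (QuotientGroup.mk g : PGL) ≠ 1 := by
        rw [Ne, QuotientGroup.eq_one_iff, Subgroup.mem_center_iff]
        intro hc
        have hu : g ^ n = 1 := Units.ext (by push_cast; rw [hg.2, one_smul])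
        obtain ⟨r, hr⟩ : ∃ r : F, (g : Matrix (Fin 2) (Fin 2) F) = r • 1 := by
          have e1 := congrArg (fun y : GL (Fin 2) F => (y : Matrix (Fin 2) (Fin 2) F))
            (hc (Matrix.GeneralLinearGroup.mkOfDetNeZero !![(1 : F), 1; 0, 1] (by simp [Matrix.det_fin_two])))
          have e2 := congrArg (fun y : GL (Fin 2) F => (y : Matrix (Fin 2) (Fin 2) F))
            (hc (Matrix.GeneralLinearGroup.mkOfDetNeZero !![(1 : F), 0; 1, 1] (by simp [Matrix.det_fin_two])))
          simp only [Units.val_mul] at e1 e2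
          have a1 := congrFun (congrFun e1 0) 0
          have a2 := congrFun (congrFun e1 0) 1
          have a3 := congrFun (congrFun e2 0) 0
          simp [Matrix.GeneralLinearGroup.mkOfDetNeZero, Matrix.mul_apply, Fin.sum_univ_two] at a1 a2 a3
          refine ⟨(g : Matrix (Fin 2) (Fin 2) F) 0 0, ?_⟩
          ext i l
          fin_cases i <;> fin_cases l <;> simp
          · exact a3
          · exact a1
          · linear_combination a2
        have h1 := hg.2
        rw [hr, smul_pow, one_pow] at h1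
        have h2' : r ^ n = 1 := by simpa using congrFun (congrFun h1 0) 0
        have hr1 : r = 1 := by
          refine sub_eq_zero.mp (eq_zero_of_pow_eq_zero (n := n) ?_)
          rw [sub_pow_char, h2', one_pow, sub_self]
        exact hg.1 (Units.ext (by rw [hr, hr1, one_smul]; rfl))
      rcases (Nat.dvd_prime hp.out).mp (orderOf_dvd_of_pow_eq_one (mk_pow_eq_one hg.2)) with e | e
      · exact absurd (orderOf_eq_one_iff.mp e) hne
      · exact e ▸ orderOf_dvd_natCard _

end CfsgLib.PGL2Spectrum
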