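import Mathlib

/-!
`3⁴ ⋊ (5 : 8)`, a fixed-point-free action, with element orders the divisors of `8` and `10`, and `3`.
-/

set_option autoImplicit false

namespace CfsgLib.PGL2Spectrum.Nine

abbrev Vec := ZMod 3 × ZMod 3 × ZMod 3 × ZMod 3

/-- Multiplication by a fifth root of unity. -/
def fx (v : Vec) : Vec := (-v.2.2.2, v.1 - v.2.2.2, v.2.1 - v.2.2.2, v.2.2.1 - v.2.2.2)

/-- The Frobenius map. -/
def fs (v : Vec) : Vec := (v.1 - v.2.2.2, v.2.2.1 - v.2.2.2, -v.2.2.2, v.2.1 - v.2.2.2)

/-- A semilinear map with fourth power `-1`. -/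
def fy (v : Vec) : Vec := fs v - fx (fs v)

def ax : MulAut (Multiplicative Vec) :=
  AddEquiv.toMultiplicative
    { toFun := fx
      invFun := fun v => fx (fx (fx (fx v)))
      left_inv := by unfold Function.LeftInverse; decide +kernel
      right_inv := by unfold Function.RightInverse Function.LeftInverse; decide +kernel
      map_add' := fun v w => by simp [fx, Prod.ext_iff]; ring_nf; simp }

def ay : MulAut (Multiplicative Vec) :=
  AddEquiv.toMultiplicative
    { toFun := fy
      invFun := fun v => fy (fy (fy (fy (fy (fy (fy v))))))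
      left_inv := by unfold Function.LeftInverse; decide +kernel
      right_inv := by unfold Function.RightInverse Function.LeftInverse; decide +kernel
      map_add' := fun v w => by simp [fy, fs, fx, Prod.ext_iff]; ring_nf; simp }

theorem apply_facts : (∀ v : Vec, fx (fx (fx (fx (fx v)))) = v) ∧ (∀ v : Vec, fy (fy (fy (fy v))) = -v) ∧
    (∀ v : Vec, fy (fx v) = fx (fx (fx (fy v)))) ∧ (∀ v : Vec, fx v = v → v = 0) ∧ (∀ v : Vec, -v = v → v = 0) ∧
    fx (1, 0, 0, 0) ≠ (1, 0, 0, 0) := by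
  refine ⟨?_, ?_, ?_, ?_, ?_, ?_⟩ <;> decide +kernel

theorem vec_facts : (3 : ℕ) • ((1, 0, 0, 0) : Vec) = 0 ∧ ((1, 0, 0, 0) : Vec) ≠ 0 := by decide +kernel

theorem ax_five : ax ^ 5 = 1 := MulEquiv.ext fun v => congrArg Multiplicative.ofAdd (apply_facts.1 v.toAdd)

theorem ay_four (v : Multiplicative Vec) : (ay ^ 4) v = v⁻¹ :=
  congrArg Multiplicative.ofAdd (apply_facts.2.1 v.toAdd)

theorem ay_eight : ay ^ 8 = 1 := MulEquiv.ext fun v => by
  rw [show (8 : ℕ) = 4 + 4 from rfl, pow_add, MulAut.mul_apply, ay_four, ay_four, inv_inv, MulAut.one_apply]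

theorem comm_gen : SemiconjBy ay ax (ax ^ 3) :=
  MulEquiv.ext fun v => congrArg Multiplicative.ofAdd (apply_facts.2.2.1 v.toAdd)

theorem swap (i j : ℕ) : ay ^ j * ax ^ i = ax ^ (i * 3 ^ j) * ay ^ j := by
  induction j generalizing i with
  | zero => simp
  | succ j ih =>
    rw [pow_succ, mul_assoc, (comm_gen.pow_right i).eq, ← mul_assoc, ← pow_mul, ih, mul_assoc]
    congr 2
    ring

/-- The complement. -/
def comp : Subgroup (MulAut (Multiplicative Vec)) := Subgroup.closure {ax, ay}

theorem form {k : MulAut (Multiplicative Vec)} (hk : k ∈ comp) : ∃ i j : ℕ, k = ax ^ i * ay ^ j := by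
  induction hk using Subgroup.closure_induction with
  | mem x hx =>
    rcases hx with rfl | rfl
    · exact ⟨1, 0, by simp⟩
    · exact ⟨0, 1, by simp⟩
  | one => exact ⟨0, 0, by simp⟩
  | mul a b _ _ ha hb =>
    obtain ⟨i, j, rfl⟩ := ha
    obtain ⟨i', j', rfl⟩ := hb
    refine ⟨i + i' * 3 ^ j, j + j', ?_⟩
    rw [mul_assoc, ← mul_assoc (ay ^ j), swap, ← mul_assoc, ← mul_assoc, ← pow_add, mul_assoc, ← pow_add]
  | inv a _ ha =>
    obtain ⟨i, j, rfl⟩ := ha
    refine ⟨4 * i * 3 ^ (7 * j), 7 * j, ?_⟩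
    rw [← swap, inv_eq_iff_mul_eq_one, mul_assoc, ← mul_assoc (ay ^ j), ← pow_add, show j + 7 * j = 8 * j by ring,
      pow_mul, ay_eight, one_pow, one_mul, ← pow_add, show i + 4 * i = 5 * i by ring, pow_mul, ax_five, one_pow]

theorem sq_form (i j : ℕ) : (ax ^ i * ay ^ j) ^ 2 = ax ^ (i * (1 + 3 ^ j)) * ay ^ (2 * j) := by
  rw [pow_two, mul_assoc, ← mul_assoc (ay ^ j), swap, ← mul_assoc, ← mul_assoc, ← pow_add, mul_assoc, ← pow_add]
  ring_nf

theorem cases_power {k : MulAut (Multiplicative Vec)} (hk : k ∈ comp) :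
    k ^ 4 = ay ^ 4 ∨ k ^ 2 = ay ^ 4 ∨ k ^ 5 = ay ^ 4 ∨ k = 1 ∨ (k ^ 5 = 1 ∧ ∃ r : ℕ, k ^ r = ax) := by
  obtain ⟨i, j, rfl⟩ := form hk
  have hy : ∀ m : ℕ, ay ^ (4 * m) = if m % 2 = 0 then 1 else ay ^ 4 := fun m => by
    obtain ⟨c, rfl | rfl⟩ : ∃ c, m = 2 * c ∨ m = 2 * c + 1 := ⟨m / 2, by omega⟩
    · rw [if_pos (by omega), ← mul_assoc, pow_mul, show (4 * 2) = 8 from rfl, ay_eight, one_pow]
    · rw [if_neg (by omega), mul_add, ← mul_assoc, pow_add, pow_mul, show (4 * 2) = 8 from rfl, ay_eight, one_pow,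
        one_mul, mul_one]
  have hx5 : ∀ m : ℕ, 5 ∣ m → ax ^ m = 1 := fun m ⟨c, hc⟩ => by rw [hc, pow_mul, ax_five, one_pow]
  obtain ⟨m, rfl | rfl⟩ : ∃ m, j = 2 * m ∨ j = 2 * m + 1 := ⟨j / 2, by omega⟩
  · obtain ⟨c, rfl | rfl⟩ : ∃ c, m = 2 * c ∨ m = 2 * c + 1 := ⟨m / 2, by omega⟩
    · rw [show 2 * (2 * c) = 4 * c by ring, hy]
      have hcom : Commute (ax ^ i) (ay ^ 4) := MulEquiv.ext fun v => by
        rw [MulAut.mul_apply, MulAut.mul_apply, ay_four, ay_four, map_inv]
      by_cases hc : c % 2 = 0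
      · rw [if_pos hc, mul_one]
        by_cases hi : 5 ∣ i
        · exact Or.inr (Or.inr (Or.inr (Or.inl (hx5 i hi))))
        · refine Or.inr (Or.inr (Or.inr (Or.inr ⟨?_, ?_⟩)))
          · rw [← pow_mul]; exact hx5 _ (dvd_mul_left 5 i)
          · obtain ⟨r, hr⟩ : ∃ r, (i * r) % 5 = 1 := by
              have : i % 5 = 1 ∨ i % 5 = 2 ∨ i % 5 = 3 ∨ i % 5 = 4 := by omega
              rcases this with e | e | e | e
              · exact ⟨1, by omega⟩
              · exact ⟨3, by omega⟩
              · exact ⟨2, by omega⟩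
              · exact ⟨4, by omega⟩
            refine ⟨r, ?_⟩
            rw [← pow_mul, ← Nat.mod_add_div (i * r) 5, hr, pow_add, pow_one, hx5 _ (dvd_mul_right 5 _), mul_one]
      · rw [if_neg hc]
        refine Or.inr (Or.inr (Or.inl ?_))
        rw [hcom.mul_pow, ← pow_mul, hx5 _ (dvd_mul_left 5 i), one_mul, ← pow_mul, hy, if_neg (by norm_num)]
    · refine Or.inr (Or.inl ?_)
      rw [sq_form, hx5, one_mul, show 2 * (2 * (2 * c + 1)) = 4 * (2 * c + 1) by ring, hy, if_neg (by omega)]
      refine dvd_mul_of_dvd_right (Nat.dvd_of_mod_eq_zero ?_) _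
      rw [Nat.add_mod, pow_mul, Nat.pow_mod, pow_succ, pow_mul]
      simp [Nat.mul_mod, Nat.pow_mod]
  · refine Or.inl ?_
    rw [show (4 : ℕ) = 2 * 2 from rfl, pow_mul, sq_form, sq_form, hx5, one_mul, show 2 * (2 * (2 * m + 1)) = 4 * (2 * m + 1) by ring,
      hy, if_neg (by omega)]
    refine dvd_mul_of_dvd_right (Nat.dvd_of_mod_eq_zero ?_) _
    rw [Nat.add_mod, pow_mul, Nat.pow_mod, pow_succ, pow_mul]
    simp [Nat.mul_mod, Nat.pow_mod]

theorem fpf {k : MulAut (Multiplicative Vec)} (hk : k ∈ comp) (hk1 : k ≠ 1) {v : Multiplicative Vec} (hv : k v = v) :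
    v = 1 := by
  have hpow : ∀ n : ℕ, (k ^ n) v = v := fun n => by
    induction n with
    | zero => rfl
    | succ n ih => rw [pow_succ, MulAut.mul_apply, hv, ih]
  have hneg : (ay ^ 4) v = v → v = 1 := fun e => by
    rw [ay_four] at e
    exact congrArg Multiplicative.ofAdd (apply_facts.2.2.2.2.1 v.toAdd (congrArg Multiplicative.toAdd e))
  rcases cases_power hk with e | e | e | e | ⟨-, r, e⟩
  · exact hneg (e ▸ hpow 4)
  · exact hneg (e ▸ hpow 2)
  · exact hneg (e ▸ hpow 5)
  · exact absurd e hk1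
  · have h' := hpow r
    rw [e] at h'
    exact congrArg Multiplicative.ofAdd (apply_facts.2.2.2.1 v.toAdd (congrArg Multiplicative.toAdd h'))

/-- The group. -/
abbrev G9 := Multiplicative Vec ⋊[comp.subtype] comp

instance : Finite (MulAut (Multiplicative Vec)) :=
  Finite.of_injective (fun f => (f : Multiplicative Vec → Multiplicative Vec)) DFunLike.coe_injective

instance : Finite G9 := Finite.of_injective (fun h => (h.left, h.right)) fun a b e =>
  SemidirectProduct.ext (congrArg Prod.fst e) (congrArg Prod.snd e)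

theorem orders (n : ℕ) : (∃ h : G9, orderOf h = n) ↔ n ∣ 8 ∨ n ∣ 10 ∨ n = 3 := by
  have hay : ay ∈ comp := Subgroup.subset_closure (Set.mem_insert_of_mem _ rfl)
  have hax : ax ∈ comp := Subgroup.subset_closure (Set.mem_insert _ _)
  have hz1 : ay ^ 4 ≠ 1 := fun e => by
    have h1 := ay_four (Multiplicative.ofAdd ((1, 0, 0, 0) : Vec))
    rw [e, MulAut.one_apply] at h1
    exact absurd (congrArg Multiplicative.toAdd h1) (by decide)
  constructor
  · rintro ⟨h, rfl⟩
    by_cases hk : h.right = 1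
    · have h3 : orderOf h ∣ 3 := by
        refine orderOf_dvd_of_pow_eq_one (SemidirectProduct.ext ?_ ?_)
        · have e : h = SemidirectProduct.inl h.left := SemidirectProduct.ext rfl hk
          rw [e, ← map_pow]
          change h.left ^ 3 = 1
          have e3 : ∀ v : Vec, v + v + v = 0 := by decide +kernel
          rw [pow_succ, pow_two]
          exact congrArg Multiplicative.ofAdd (e3 h.left.toAdd)
        · rw [← SemidirectProduct.rightHom_eq_right, map_pow]
          change h.right ^ 3 = 1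
          rw [hk, one_pow]
      rcases (Nat.dvd_prime Nat.prime_three).mp h3 with e | e
      · exact Or.inl (by rw [e]; exact one_dvd _)
      · exact Or.inr (Or.inr e)
    · have hd : ∀ m, (h.right : MulAut (Multiplicative Vec)) ^ m = 1 → orderOf h ∣ m := fun m hm => by
        refine orderOf_dvd_of_pow_eq_one ?_
        set w := h ^ m with hw
        have hwr : w.right = 1 := by
          rw [hw, ← SemidirectProduct.rightHom_eq_right, map_pow]
          exact Subtype.ext (by simpa using hm)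
        have hc := congrArg SemidirectProduct.left ((Commute.self_pow h m).eq)
        rw [← hw, SemidirectProduct.mul_left, SemidirectProduct.mul_left, hwr, map_one, MulAut.one_apply,
          mul_comm w.left] at hc
        exact SemidirectProduct.ext (fpf h.right.2 (fun e => hk (Subtype.ext e)) (mul_left_cancel hc)) hwr
      have h8 := ay_eight
      rcases cases_power h.right.2 with e | e | e | e | ⟨e, -⟩
      · exact Or.inl (hd 8 (by rw [show (8 : ℕ) = 4 * 2 from rfl, pow_mul, e, ← pow_mul, h8]))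
      · refine Or.inl ((hd 4 ?_).trans (by norm_num))
        rw [show (4 : ℕ) = 2 * 2 from rfl, pow_mul, e, ← pow_mul, h8]
      · exact Or.inr (Or.inl (hd 10 (by rw [show (10 : ℕ) = 5 * 2 from rfl, pow_mul, e, ← pow_mul, h8])))
      · exact absurd (Subtype.ext e) hk
      · exact Or.inr (Or.inl ((hd 5 e).trans (by norm_num)))
  · have hsub : ∀ {k : ℕ} (m : MulAut (Multiplicative Vec)) (hm : m ∈ comp), orderOf m = k → ∀ {n}, n ∣ k →
        ∃ h : G9, orderOf h = n := by
      intro k m hm hk n hn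
      have e : orderOf (SemidirectProduct.inr ⟨m, hm⟩ : G9) = k := by
        rw [orderOf_injective _ SemidirectProduct.inr_injective, Subgroup.orderOf_mk, hk]
      obtain ⟨c, hc⟩ := hn
      refine ⟨(SemidirectProduct.inr ⟨m, hm⟩ : G9) ^ c, ?_⟩
      have h0 : n * c ≠ 0 := hc ▸ e ▸ (orderOf_pos (SemidirectProduct.inr ⟨m, hm⟩ : G9)).ne'
      rw [orderOf_pow, e, hc, Nat.gcd_eq_right (dvd_mul_left c n), Nat.mul_div_cancel _ (Nat.pos_of_ne_zero (right_ne_zero_of_mul h0))]
    haveI := Fact.mk Nat.prime_two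
    have ho8 : orderOf ay = 8 := orderOf_eq_prime_pow (p := 2) (n := 2) (by norm_num; exact hz1) (by norm_num; exact ay_eight)
    rintro (e | e | rfl)
    · exact hsub ay hay ho8 e
    · refine hsub (ax * ay ^ 4) (mul_mem hax (pow_mem hay 4)) ?_ e
      have hcom : Commute ax (ay ^ 4) := MulEquiv.ext fun v => by
        rw [MulAut.mul_apply, MulAut.mul_apply, ay_four, ay_four, map_inv]
      have o5 : orderOf ax = 5 := by
        haveI := Fact.mk Nat.prime_five
        refine orderOf_eq_prime ax_five fun e => apply_facts.2.2.2.2.2 ?_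
        exact congrArg Multiplicative.toAdd (DFunLike.congr_fun e (Multiplicative.ofAdd ((1, 0, 0, 0) : Vec)))
      have o2 : orderOf (ay ^ 4) = 2 := orderOf_eq_prime (by rw [← pow_mul]; exact ay_eight) hz1
      rw [hcom.orderOf_mul_eq_mul_orderOf_of_coprime (by rw [o5, o2]; norm_num), o5, o2]
    · haveI := Fact.mk Nat.prime_three
      refine ⟨SemidirectProduct.inl (Multiplicative.ofAdd ((1, 0, 0, 0) : Vec)), orderOf_eq_prime ?_ ?_⟩
      · rw [← map_pow, ← map_one (SemidirectProduct.inl : Multiplicative Vec →* G9)]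
        exact congrArg _ (congrArg Multiplicative.ofAdd vec_facts.1)
      · intro e
        rw [← map_one (SemidirectProduct.inl : Multiplicative Vec →* G9)] at e
        exact vec_facts.2 (congrArg Multiplicative.toAdd (SemidirectProduct.inl_injective e))

end CfsgLib.PGL2Spectrum.Nine
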