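import Mathlib
import Cfsg.Agent.Lib.PSL2Spectrum
import Cfsg.Agent.Lib.PGL2Spectrum.Orders

/-!
A group with the spectrum of `PGL(2,p)` and a nontrivial normal `2`-subgroup: `W ⋊ PSL(2,p)`, where `W` consists of
the functions on `PSL(2,p)` whose sum over every right coset of a subgroup of order `p` is zero modulo two.
-/

set_option autoImplicit false
set_option linter.unusedSectionVars false

namespace CfsgLib.PGL2Spectrum

open Finset

/-! ### The module and the semidirect product -/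

section Generic

variable (G : Type*) [Group G] (p : ℕ)

/-- Functions with even sums along the orbits of the elements of order `p`. -/
def parity : AddSubgroup (G → ZMod 2) where
  carrier := {f | ∀ u : G, orderOf u = p → ∀ y : G, ∑ i ∈ range p, f (u ^ i * y) = 0}
  zero_mem' := fun u _ y => by simp
  add_mem' := fun {f f'} hf hf' u hu y => by simp [sum_add_distrib, hf u hu y, hf' u hu y]
  neg_mem' := fun {f} hf u hu y => by simp [hf u hu y]

theorem parity_shift (g : G) {f : G → ZMod 2} (hf : f ∈ parity G p) : (fun y => f (g⁻¹ * y)) ∈ parity G p := by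
  intro u hu y
  have e : orderOf (g⁻¹ * u * g) = p := by
    rw [show g⁻¹ * u * g = MulAut.conj g⁻¹ u by rw [MulAut.conj_apply, inv_inv], MulEquiv.orderOf_eq, hu]
  rw [← hf (g⁻¹ * u * g) e (g⁻¹ * y)]
  refine sum_congr rfl fun i _ => congrArg f ?_
  rw [show g⁻¹ * u * g = g⁻¹ * u * (g⁻¹)⁻¹ by rw [inv_inv], conj_pow]
  group

/-- Left translation. -/
def shift : G →* MulAut (Multiplicative (parity G p)) where
  toFun g :=
    { toFun := fun v => Multiplicative.ofAdd ⟨_, parity_shift G p g v.toAdd.2⟩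
      invFun := fun v => Multiplicative.ofAdd ⟨_, parity_shift G p g⁻¹ v.toAdd.2⟩
      left_inv := fun v => Multiplicative.toAdd.injective (Subtype.ext (funext fun y => by simp))
      right_inv := fun v => Multiplicative.toAdd.injective (Subtype.ext (funext fun y => by simp))
      map_mul' := fun v w => rfl }
  map_one' := MulEquiv.ext fun v => Multiplicative.toAdd.injective (Subtype.ext (funext fun y => by simp))
  map_mul' := fun g h => MulEquiv.ext fun v => Multiplicative.toAdd.injective (Subtype.ext (funext fun y => by simp [mul_assoc]))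

/-- The extension. -/
abbrev Ext := Multiplicative (parity G p) ⋊[shift G p] G

variable {G p}

/-- The underlying function of the kernel part. -/
def val (h : Ext G p) : G → ZMod 2 := (h.left.toAdd : parity G p)

theorem val_mul (a b : Ext G p) (y : G) : val (a * b) y = val a y + val b (a.right⁻¹ * y) := rfl

theorem pow_eq (h : Ext G p) (n : ℕ) :
    (h ^ n).right = h.right ^ n ∧ ∀ y, val (h ^ n) y = ∑ i ∈ range n, val h ((h.right⁻¹) ^ i * y) := by
  induction n with
  | zero => exact ⟨by rw [pow_zero, pow_zero]; rfl, fun y => by rw [pow_zero, range_zero, sum_empty]; rfl⟩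
  | succ n ih =>
    refine ⟨by rw [pow_succ, SemidirectProduct.mul_right, ih.1, pow_succ], fun y => ?_⟩
    rw [pow_succ', val_mul, sum_range_succ', ih.2, add_comm (val h y), pow_zero, one_mul]
    congr 1
    exact sum_congr rfl fun i _ => by rw [pow_succ, mul_assoc]

theorem eq_one_of (h : Ext G p) (h1 : h.right = 1) (h2 : ∀ y, val h y = 0) : h = 1 :=
  SemidirectProduct.ext (Multiplicative.toAdd.injective (Subtype.ext (funext h2))) h1

variable [Finite G]

instance : Finite (Ext G p) :=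
  Finite.of_injective (fun h => (val h, h.right)) fun a b e => SemidirectProduct.ext
    (Multiplicative.toAdd.injective (Subtype.ext (congrArg Prod.fst e))) (congrArg Prod.snd e)

theorem order_dvd (h : Ext G p) : orderOf h ∣ 2 * orderOf h.right := by
  refine orderOf_dvd_of_pow_eq_one ?_
  rw [mul_comm, pow_mul]
  set k := h ^ orderOf h.right with hk
  have hr : k.right = 1 := by rw [hk, (pow_eq h _).1, pow_orderOf_eq_one]
  refine eq_one_of _ (by rw [(pow_eq k 2).1, hr, one_pow]) fun y => ?_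
  rw [(pow_eq k 2).2, hr]
  simp [sum_range_succ]
  exact Or.inl rfl

theorem order_eq_prime (h : Ext G p) (hp : orderOf h.right = p) : orderOf h = p := by
  refine Nat.dvd_antisymm (orderOf_dvd_of_pow_eq_one (eq_one_of _ ?_ fun y => ?_)) ?_
  · rw [(pow_eq h p).1]; exact orderOf_dvd_iff_pow_eq_one.mp hp.dvd
  · rw [(pow_eq h p).2]
    exact h.left.toAdd.2 _ (by rw [orderOf_inv, hp]) y
  · refine hp.symm.dvd.trans (orderOf_dvd_of_pow_eq_one ?_)
    rw [← (pow_eq h _).1, pow_orderOf_eq_one]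
    rfl

theorem exists_double {x : G} {f : G → ZMod 2} (hf : f ∈ parity G p) {y : G}
    (hne : ∑ i ∈ range (orderOf x), f ((x⁻¹) ^ i * y) ≠ 0) : ∃ h : Ext G p, orderOf h = 2 * orderOf x := by
  let h : Ext G p := ⟨Multiplicative.ofAdd ⟨f, hf⟩, x⟩
  refine ⟨h, ?_⟩
  have d1 : orderOf h ∣ 2 * orderOf x := order_dvd h
  have d2 : orderOf x ∣ orderOf h := orderOf_dvd_of_pow_eq_one (by
    rw [show x = h.right from rfl, ← (pow_eq h _).1, pow_orderOf_eq_one]; rfl)
  obtain ⟨c, hc⟩ := d2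
  rw [hc, mul_comm 2] at d1
  rcases (Nat.dvd_prime Nat.prime_two).mp (Nat.dvd_of_mul_dvd_mul_left (orderOf_pos x) d1) with rfl | rfl
  · exfalso
    refine hne ?_
    rw [mul_one] at hc
    have e := (pow_eq h (orderOf x)).2 y
    rw [← hc, pow_orderOf_eq_one] at e
    rw [← hc]
    exact e.symm
  · rw [hc, mul_comm]

end Generic

/-! ### `PSL(2,p)` -/

variable {F : Type*} [Field F] [Fintype F]

local notation "SL2" => Matrix.SpecialLinearGroup (Fin 2) F
local notation "PSL" => Matrix.ProjectiveSpecialLinearGroup (Fin 2) F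
local notation "M2" => Matrix (Fin 2) (Fin 2) F

theorem mk_eq_one_iff (g : SL2) : (QuotientGroup.mk g : PSL) = 1 ↔ ∃ r : F, r * r = 1 ∧ (g : M2) = r • 1 := by
  rw [QuotientGroup.eq_one_iff, Matrix.SpecialLinearGroup.mem_center_iff]
  constructor
  · rintro ⟨r, hr, e⟩
    rw [Fintype.card_fin, pow_two] at hr
    exact ⟨r, hr, by rw [← e, Matrix.scalar_apply, Matrix.smul_one_eq_diagonal]⟩
  · rintro ⟨r, hr, e⟩
    exact ⟨r, by rw [Fintype.card_fin, pow_two, hr], by rw [e, Matrix.scalar_apply, Matrix.smul_one_eq_diagonal]⟩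

theorem trace_sq_eq {g g' : SL2} (h : (QuotientGroup.mk g : PSL) = QuotientGroup.mk g') :
    (g : M2).trace ^ 2 = (g' : M2).trace ^ 2 := by
  obtain ⟨r, hr, e⟩ := (mk_eq_one_iff (g⁻¹ * g')).mp (by rw [QuotientGroup.mk_mul, QuotientGroup.mk_inv, h, inv_mul_cancel])
  have e' : (g' : M2) = r • (g : M2) := by
    conv_lhs => rw [← mul_inv_cancel_left g g']
    rw [Matrix.SpecialLinearGroup.coe_mul, e, mul_smul_comm, mul_one]
  rw [e', Matrix.trace_smul, smul_eq_mul, mul_pow, pow_two r, hr, one_mul]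

/-- The indicator of trace `±c`. -/
noncomputable def cl (c : F) (x : PSL) : ZMod 2 :=
  @ite _ ((x.out : M2).trace ^ 2 = c ^ 2) (Classical.propDecidable _) 1 0

theorem cl_mk [DecidableEq F] (c : F) (g : SL2) :
    cl c (QuotientGroup.mk g) = if (g : M2).trace ^ 2 = c ^ 2 then 1 else 0 := by
  unfold cl
  rw [trace_sq_eq (QuotientGroup.out_eq' (QuotientGroup.mk g : PSL))]
  congr

/-- Adjoint to a unipotent direction, the trace discriminant is a square. -/
theorem isSquare_disc {N : M2} (hN : N * N = 0) (hN0 : N ≠ 0) {M : M2} (hM : M.det = 1)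
    (hmu : (N * M).trace = 0) (hTr : N.trace = 0) : IsSquare (M.trace ^ 2 - 4) := by
  have h00 := congrFun (congrFun hN 0) 0
  simp [Matrix.mul_apply, Fin.sum_univ_two] at h00
  simp only [Matrix.trace_fin_two, Matrix.mul_apply, Fin.sum_univ_two] at hmu hTr ⊢
  rw [Matrix.det_fin_two] at hM
  have hd : N 1 1 = -N 0 0 := eq_neg_of_add_eq_zero_right hTr
  rw [hd] at hmu
  by_cases hb : N 0 1 = 0
  · rw [hb] at h00 hmu
    have ha : N 0 0 = 0 := by simpa using h00
    rw [ha] at hmu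
    have hc : N 1 0 ≠ 0 := fun e => hN0 (by ext i j; fin_cases i <;> fin_cases j <;> simp [hb, ha, hd, e])
    have hy : M 0 1 = 0 := by simpa [hc] using hmu
    rw [hy] at hM
    exact ⟨M 0 0 - M 1 1, by linear_combination (4 : F) * hM⟩
  · refine ⟨(N 0 1 * (M 0 0 - M 1 1) - 2 * N 0 0 * M 0 1) / N 0 1, ?_⟩
    field_simp
    linear_combination (-4 * M 0 1 ^ 2) * h00 + (4 * N 0 1 * M 0 1) * hmu + (4 * N 0 1 ^ 2) * hM

theorem pow_lin (g : SL2) (i : ℕ) : ∃ a b : F, ((g ^ i : SL2) : M2) = a • 1 + b • (g : M2) := by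
  induction i with
  | zero => exact ⟨1, 0, by simp⟩
  | succ i ih =>
    obtain ⟨a, b, e⟩ := ih
    refine ⟨-b, a + b * (g : M2).trace, ?_⟩
    have hd := g.2
    rw [Matrix.det_fin_two] at hd
    rw [pow_succ, Matrix.SpecialLinearGroup.coe_mul, e]
    ext k l
    fin_cases k <;> fin_cases l <;> simp [Matrix.mul_apply, Fin.sum_univ_two, Matrix.trace_fin_two]
    · linear_combination (-b) * hd
    · ring
    · ring
    · linear_combination (-b) * hd

theorem exists_adjoint (h2 : (2 : F) ≠ 0) (c : F) (g : SL2) (hg : (g : M2).trace ^ 2 ≠ 4) :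
    ∃ A : SL2, (A : M2).trace = c ∧ ((A : M2) * (g : M2)).trace = c / 2 * (g : M2).trace := by
  obtain ⟨w, hw⟩ : ∃ w, w = ((g : M2) 0 0 - (g : M2) 1 1) / 2 := ⟨_, rfl⟩
  have hd := g.2
  rw [Matrix.det_fin_two] at hd
  rw [Matrix.trace_fin_two] at hg
  have hD : w ^ 2 + (g : M2) 0 1 * (g : M2) 1 0 ≠ 0 := fun e => hg (by
    rw [hw] at e
    field_simp at e
    linear_combination e + (4 : F) * hd)
  obtain ⟨b1, b2, b3, hb, hR⟩ : ∃ b1 b2 b3 : F,
      2 * w * b1 + (g : M2) 0 1 * b3 + (g : M2) 1 0 * b2 = 0 ∧ b1 ^ 2 + b2 * b3 = (c / 2) ^ 2 - 1 := by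
    by_cases hβ : (g : M2) 0 1 = 0
    · have hwn : w ≠ 0 := fun e => hD (by rw [hβ, e]; ring)
      refine ⟨-((g : M2) 1 0) / (2 * w), 1, (c / 2) ^ 2 - 1 - (-((g : M2) 1 0) / (2 * w)) ^ 2, ?_, by ring⟩
      rw [hβ]; field_simp; ring
    · have hodd : Fintype.card F % 2 = 1 :=
        FiniteField.odd_card_of_char_ne_two fun e => h2 (by
          haveI := ringChar.of_eq e
          exact CharP.cast_eq_zero F 2)
      obtain ⟨x, y, hxy⟩ := FiniteField.exists_root_sum_quadratic (R := F)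
        (f := Polynomial.X ^ 2 - Polynomial.C ((c / 2) ^ 2 - 1))
        (g := Polynomial.C (-(w ^ 2 + (g : M2) 0 1 * (g : M2) 1 0)) * Polynomial.X ^ 2)
        (Polynomial.degree_X_pow_sub_C (by norm_num) _)
        (Polynomial.degree_C_mul_X_pow 2 (neg_ne_zero.mpr hD)) hodd
      simp at hxy
      refine ⟨x + w * y, (g : M2) 0 1 * y,
        -(2 * w * (x + w * y) + (g : M2) 1 0 * ((g : M2) 0 1 * y)) / (g : M2) 0 1, ?_, ?_⟩
      · field_simp; ring
      · field_simp
        field_simp at hxy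
        linear_combination hxy
  refine ⟨⟨!![c / 2 + b1, b2; b3, c / 2 - b1], ?_⟩, ?_, ?_⟩
  · rw [Matrix.det_fin_two_of]; linear_combination -hR
  · simp [Matrix.trace_fin_two]; field_simp; ring
  · simp [Matrix.trace_fin_two, Matrix.mul_apply, Fin.sum_univ_two, Matrix.vecMul, dotProduct, Matrix.vecHead, Matrix.vecTail]
    rw [hw] at hb
    field_simp at hb ⊢
    linear_combination (2 : F) * hb

variable (p : ℕ) [hp : Fact p.Prime] [CharP F p] (hq : Fintype.card F = p)
include hq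

theorem unipotent_lift (h2 : (2 : F) ≠ 0) {u : PSL} (hu : orderOf u = p) :
    ∃ ū : SL2, QuotientGroup.mk ū = u ∧ ∃ N : M2, N * N = 0 ∧ N ≠ 0 ∧ N.trace = 0 ∧ (ū : M2) = 1 + N := by
  obtain ⟨g, rfl⟩ := QuotientGroup.mk_surjective u
  have hp2 : p ≠ 2 := fun e => h2 (by subst e; exact CharP.cast_eq_zero F 2)
  obtain ⟨n, hn⟩ := hp.out.odd_of_ne_two hp2
  have hn0 : n ≠ 0 := by have := hp.out.two_le; omega
  have hmk : (QuotientGroup.mk (g ^ (p + 1)) : PSL) = QuotientGroup.mk g := by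
    rw [QuotientGroup.mk_pow, pow_succ]
    nth_rw 1 [← hu]
    rw [pow_orderOf_eq_one, one_mul]
  have hg2 : g ^ (2 * p) = 1 := by
    obtain ⟨r, hr, e⟩ := (mk_eq_one_iff (g ^ p)).mp (by rw [QuotientGroup.mk_pow, ← hu, pow_orderOf_eq_one])
    rw [mul_comm, pow_mul, pow_two]
    apply Subtype.ext
    rw [Matrix.SpecialLinearGroup.coe_mul, e, smul_mul_assoc, one_mul, smul_smul, hr, one_smul,
      Matrix.SpecialLinearGroup.coe_one]
  obtain ⟨ū, hū⟩ : ∃ ū, ū = g ^ (p + 1) := ⟨_, rfl⟩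
  rw [← hū] at hmk
  have hne1 : (QuotientGroup.mk ū : PSL) ≠ 1 := fun e => hp.out.ne_one (by
    rw [← hu, ← hmk, e, orderOf_one])
  have hpow : ((ū : M2)) ^ p = 1 := by
    rw [← Matrix.SpecialLinearGroup.coe_pow, hū, ← pow_mul, show (p + 1) * p = 2 * p * ((p + 1) / 2) by
      rw [hn, show 2 * n + 1 + 1 = 2 * (n + 1) by ring, Nat.mul_div_cancel_left _ two_pos]; ring,
      pow_mul, hg2, one_pow, Matrix.SpecialLinearGroup.coe_one]
  have hfer : ∀ a : F, a ^ p = a := fun a => hq ▸ FiniteField.pow_card a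
  set t := (ū : M2).trace with ht
  have h1 := pow_char_pow p (ū : M2) 1
  rw [pow_one, hfer, hfer, hpow, ← sub_smul] at h1
  have h3 : (t ^ 2 - 4 * (ū : M2).det) ^ n • ((2 : F) • (ū : M2) - t • (1 : M2)) = (2 - t) • (1 : M2) := by
    rw [← h1, hn, pow_odd]
  rw [Matrix.SpecialLinearGroup.det_coe, mul_one] at h3
  have hD : t ^ 2 - 4 = 0 := by
    by_contra hD
    have hu1 : (ū : M2) = ((2 : F)⁻¹ * ((((t ^ 2 - 4) ^ n)⁻¹) * (2 - t) + t)) • (1 : M2) := by
      have e := congrArg (fun X : M2 => ((t ^ 2 - 4) ^ n)⁻¹ • X) h3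
      simp only [smul_smul, inv_mul_cancel₀ (pow_ne_zero n hD), one_smul] at e
      rw [sub_eq_iff_eq_add, ← add_smul] at e
      rw [mul_smul, ← e, smul_smul, inv_mul_cancel₀ h2, one_smul]
    refine hne1 ((mk_eq_one_iff ū).mpr ⟨_, ?_, hu1⟩)
    have hd := ū.2
    rw [hu1, Matrix.det_smul, Matrix.det_one, Fintype.card_fin, mul_one, pow_two] at hd
    exact hd
  rw [hD, zero_pow hn0, zero_smul] at h3
  have ht2 : t = 2 := by
    have := congrFun (congrFun h3 0) 0
    simp at this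
    exact (sub_eq_zero.mp this.symm).symm
  refine ⟨ū, hmk, (ū : M2) - 1, ?_, fun e => ?_, ?_, (add_sub_cancel _ _).symm⟩
  · have e := two_mul_sub_sq (ū : M2)
    rw [← ht, Matrix.SpecialLinearGroup.det_coe, mul_one, hD, zero_smul, ht2, ← smul_sub, smul_mul_assoc, mul_smul_comm, smul_smul] at e
    exact (smul_eq_zero.mp e).resolve_left (mul_ne_zero h2 h2)
  · exact hne1 ((mk_eq_one_iff ū).mpr ⟨1, one_mul 1, by rw [one_smul]; exact sub_eq_zero.mp e⟩)
  · rw [Matrix.trace_sub, ← ht, ht2, Matrix.trace_one, Fintype.card_fin]; norm_num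

theorem cl_mem (h2 : (2 : F) ≠ 0) (c : F) (hc0 : c ≠ 0) (hc : ¬ IsSquare (c ^ 2 - 4)) : cl c ∈ parity PSL p := by
  classical
  intro u hu y
  obtain ⟨M, rfl⟩ := QuotientGroup.mk_surjective y
  obtain ⟨ū, rfl, N, hN, hN0, hNt, hū⟩ := unipotent_lift p hq h2 hu
  have hpow : ∀ i : ℕ, ((ū ^ i : SL2) : M2) = 1 + (i : F) • N := fun i => by
    induction i with
    | zero => simp
    | succ i ih =>
      rw [pow_succ, Matrix.SpecialLinearGroup.coe_mul, ih, hū, add_mul, one_mul, smul_mul_assoc, mul_add, mul_one,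
        hN, add_zero, Nat.cast_succ, add_smul, one_smul]
      abel
  set g : F → ZMod 2 := fun s => if ((M : M2).trace + s * (N * (M : M2)).trace) ^ 2 = c ^ 2 then 1 else 0 with hg
  have hterm : ∀ i ∈ range p, cl c ((QuotientGroup.mk ū : PSL) ^ i * QuotientGroup.mk M) = g (i : F) := fun i _ => by
    rw [← QuotientGroup.mk_pow, ← QuotientGroup.mk_mul, cl_mk, Matrix.SpecialLinearGroup.coe_mul, hpow, add_mul,
      one_mul, smul_mul_assoc, Matrix.trace_add, Matrix.trace_smul, smul_eq_mul]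
  rw [sum_congr rfl hterm]
  have hinj : Set.InjOn (fun i : ℕ => (i : F)) (range p : Set ℕ) := fun i hi j hj e => by
    simp only [coe_range, Set.mem_Iio] at hi hj
    have := (CharP.natCast_eq_natCast F p).mp e
    rwa [Nat.ModEq, Nat.mod_eq_of_lt hi, Nat.mod_eq_of_lt hj] at this
  rw [← sum_image (g := fun i : ℕ => (i : F)) (f := g) hinj,
    eq_univ_of_card ((range p).image fun i : ℕ => (i : F)) (by rw [card_image_of_injOn hinj, card_range, hq])]
  by_cases hmu : (N * (M : M2)).trace = 0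
  · have hne : (M : M2).trace ^ 2 ≠ c ^ 2 := fun e => hc (e ▸ isSquare_disc hN hN0 M.2 hmu hNt)
    simp [hg, hmu, hne]
  · have hcc : c ≠ -c := fun e => hc0 ((mul_eq_zero.mp (show 2 * c = 0 by linear_combination e)).resolve_left h2)
    rw [show (∑ s, g s) = ∑ s : F, if s ^ 2 = c ^ 2 then (1 : ZMod 2) else 0 from
        Fintype.sum_equiv ((Equiv.mulRight₀ _ hmu).trans (Equiv.addLeft (M : M2).trace)) g _ (fun s => rfl), sum_boole,
      show (univ.filter fun s : F => s ^ 2 = c ^ 2) = {c, -c} by ext s; simp [sq_eq_sq_iff_eq_or_eq_neg],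
      card_pair hcc]
    rfl

theorem sum_odd (h2 : (2 : F) ≠ 0) (c : F) (hc0 : c ≠ 0) {x : PSL} (hx1 : x ≠ 1) (hxp : x ^ p ≠ 1) :
    ∃ y : PSL, ∑ i ∈ range (orderOf x), cl c ((x⁻¹) ^ i * y) ≠ 0 := by
  classical
  obtain ⟨g, hgx⟩ := QuotientGroup.mk_surjective x⁻¹
  have hfer : ∀ a : F, a ^ p = a := fun a => hq ▸ FiniteField.pow_card a
  have hp2 : p ≠ 2 := fun e => h2 (by subst e; exact CharP.cast_eq_zero F 2)
  obtain ⟨n, hn⟩ := hp.out.odd_of_ne_two hp2
  have ht : (g : M2).trace ^ 2 ≠ 4 := fun e => by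
    refine hxp (inv_eq_one.mp ?_)
    rw [← inv_pow, ← hgx, ← QuotientGroup.mk_pow, mk_eq_one_iff]
    have hn0 : n ≠ 0 := by have := hp.out.two_le; omega
    have h1 := pow_char_pow p (g : M2) 1
    rw [pow_one, hfer, hfer] at h1
    have h0 : ((2 : F) • (g : M2) - (g : M2).trace • (1 : M2)) ^ p = 0 := by
      rw [hn, pow_odd, Matrix.SpecialLinearGroup.det_coe, mul_one, e, sub_self, zero_pow hn0, zero_smul]
    rw [h0] at h1
    refine ⟨(2 : F)⁻¹ * (g : M2).trace, ?_, ?_⟩
    · field_simp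
      linear_combination e
    · rw [Matrix.SpecialLinearGroup.coe_pow, mul_smul, ← sub_eq_zero.mp h1.symm, smul_smul, inv_mul_cancel₀ h2, one_smul]
  obtain ⟨A, hA, hAg⟩ := exists_adjoint h2 c g ht
  refine ⟨QuotientGroup.mk A, ?_⟩
  rw [sum_eq_single 0 (fun i hi hi0 => ?_) (fun h0 => absurd (mem_range.mpr (orderOf_pos x)) h0), pow_zero, one_mul,
    cl_mk, hA, if_pos rfl]
  · exact one_ne_zero
  · rw [← hgx, ← QuotientGroup.mk_pow, ← QuotientGroup.mk_mul, cl_mk, if_neg]
    intro e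
    refine hi0 ?_
    have hi1 : x⁻¹ ^ i = 1 := by
      rw [← hgx, ← QuotientGroup.mk_pow, mk_eq_one_iff]
      obtain ⟨a, b, hab⟩ := pow_lin g i
      have hd := (g ^ i).2
      rw [Matrix.SpecialLinearGroup.coe_mul, Matrix.trace_mul_comm, hab, mul_add, mul_smul_comm, mul_smul_comm, mul_one,
        Matrix.trace_add, Matrix.trace_smul, Matrix.trace_smul, hA, hAg, smul_eq_mul, smul_eq_mul] at e
      rw [hab, Matrix.det_fin_two] at hd
      have hgd := g.2
      rw [Matrix.det_fin_two] at hgd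
      rw [Matrix.trace_fin_two] at e ht
      simp at hd
      field_simp at e
      have hb : b = 0 := by
        by_contra hb
        refine ht (mul_left_cancel₀ (pow_ne_zero 2 hb) ?_)
        linear_combination e - (4 : F) * hd + (4 * b ^ 2) * hgd
      subst hb
      refine ⟨a, by linear_combination hd, ?_⟩
      rw [hab, zero_smul, add_zero]
    rw [inv_pow, inv_eq_one] at hi1
    exact Nat.eq_zero_of_dvd_of_lt (orderOf_dvd_of_pow_eq_one hi1) (mem_range.mp hi)

/-- The spectrum of the extension. -/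
theorem ext_orders (hp5 : 5 ≤ p) (n : ℕ) :
    (∃ h : Ext PSL p, orderOf h = n) ↔ n ∣ p - 1 ∨ n ∣ p + 1 ∨ n = p := by
  classical
  have h2 : (2 : F) ≠ 0 := Ring.two_ne_zero (by rw [ringChar.eq F p]; omega)
  obtain ⟨j, hj⟩ := hp.out.odd_of_ne_two (by omega)
  have hgcd : Nat.gcd 2 (Fintype.card F - 1) = 2 := by
    rw [hq]; exact Nat.gcd_eq_left ⟨j, by omega⟩
  have horders : ∀ k : ℕ, (∃ x : PSL, orderOf x = k) ↔ k ∣ (p - 1) / 2 ∨ k ∣ (p + 1) / 2 ∨ k = p := fun k => by
    rw [CfsgLib.PSL2Spectrum.psl_orders (F := F) p k, hgcd, hq]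
  have e1 : p - 1 = 2 * ((p - 1) / 2) := by omega
  have e2 : p + 1 = 2 * ((p + 1) / 2) := by omega
  constructor
  · rintro ⟨h, rfl⟩
    rcases (horders _).mp ⟨h.right, rfl⟩ with e | e | e
    · exact Or.inl (e1 ▸ (order_dvd h).trans (mul_dvd_mul_left 2 e))
    · exact Or.inr (Or.inl (e2 ▸ (order_dvd h).trans (mul_dvd_mul_left 2 e)))
    · exact Or.inr (Or.inr (order_eq_prime h e))
  · -- a trace not of split type
    obtain ⟨δ, hδ⟩ := FiniteField.exists_nonsquare (F := F) (by rw [ringChar.eq F p]; omega)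
    have h3 : (3 : F) ≠ 0 := by
      intro e
      have h3' : ((3 : ℕ) : F) = 0 := by exact_mod_cast e
      have := Nat.le_of_dvd (by norm_num) ((CharP.cast_eq_zero_iff F p 3).mp h3')
      omega
    obtain ⟨s, hs, hs1⟩ : ∃ s : F, s ≠ 0 ∧ 1 + δ * s ^ 2 ≠ 0 := by
      by_cases e : 1 + δ * (1 : F) ^ 2 = 0
      · refine ⟨2, h2, fun e' => h3 ?_⟩
        linear_combination (4 : F) * e - e'
      · exact ⟨1, one_ne_zero, e⟩
    have hden : 1 - δ * s ^ 2 ≠ 0 := fun e => hδ ⟨s⁻¹, by field_simp; linear_combination -e⟩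
    set c : F := 2 * (1 + δ * s ^ 2) / (1 - δ * s ^ 2) with hcdef
    have hc0 : c ≠ 0 := div_ne_zero (mul_ne_zero h2 hs1) hden
    have hc : ¬ IsSquare (c ^ 2 - 4) := fun ⟨r, hr⟩ => hδ ⟨r * (1 - δ * s ^ 2) / (4 * s), by
      have h4 : (4 : F) ≠ 0 := by rw [show (4 : F) = 2 * 2 by norm_num]; exact mul_ne_zero h2 h2
      rw [hcdef] at hr
      field_simp at hr ⊢
      linear_combination hr⟩
    have hmem := cl_mem p hq h2 c hc0 hc
    have hdbl : ∀ k, 1 < k → k ≠ p → (∃ x : PSL, orderOf x = k) → ∃ h : Ext PSL p, orderOf h = 2 * k := by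
      rintro k hk1 hkp ⟨x, rfl⟩
      obtain ⟨y, hy⟩ := sum_odd p hq h2 c hc0 (x := x) (fun e => by rw [e, orderOf_one] at hk1; omega)
        (fun e => (Nat.dvd_prime hp.out).mp (orderOf_dvd_of_pow_eq_one e) |>.elim (by omega) hkp)
      exact exists_double hmem hy
    rintro (e | e | e)
    · obtain ⟨h, hh⟩ := hdbl ((p - 1) / 2) (by omega) (by omega) ((horders _).mpr (Or.inl dvd_rfl))
      exact exists_dvd ⟨h, hh⟩ (e1 ▸ e)
    · obtain ⟨h, hh⟩ := hdbl ((p + 1) / 2) (by omega) (by omega) ((horders _).mpr (Or.inr (Or.inl dvd_rfl)))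
      exact exists_dvd ⟨h, hh⟩ (e2 ▸ e)
    · obtain ⟨x, hx⟩ := (horders p).mpr (Or.inr (Or.inr rfl))
      exact ⟨SemidirectProduct.inr x, by rw [orderOf_injective _ SemidirectProduct.inr_injective, hx, e]⟩

/-- The kernel is nontrivial. -/
theorem ker_ne_bot (hp5 : 5 ≤ p) : (SemidirectProduct.inl : Multiplicative (parity PSL p) →* Ext PSL p).range ≠ ⊥ := by
  intro e
  obtain ⟨h, hh⟩ := (ext_orders p hq hp5 (p - 1)).mpr (Or.inl dvd_rfl)
  have hker : ∀ k : Ext PSL p, k.right = 1 → k = 1 := fun k hk => by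
    have hm : k ∈ (SemidirectProduct.inl : Multiplicative (parity PSL p) →* Ext PSL p).range :=
      ⟨k.left, SemidirectProduct.ext rfl hk.symm⟩
    rw [e] at hm
    exact Subgroup.mem_bot.mp hm
  have hd : orderOf h ∣ orderOf h.right := orderOf_dvd_of_pow_eq_one (hker _ (by rw [(pow_eq h _).1, pow_orderOf_eq_one]))
  obtain ⟨j, hj⟩ := hp.out.odd_of_ne_two (by omega)
  have hgcd : Nat.gcd 2 (Fintype.card F - 1) = 2 := by rw [hq]; exact Nat.gcd_eq_left ⟨j, by omega⟩
  have hx := (CfsgLib.PSL2Spectrum.psl_orders (F := F) p (orderOf h.right)).mp ⟨_, rfl⟩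
  rw [hgcd, hq] at hx
  rw [hh] at hd
  rcases hx with e | e | e
  · have := Nat.le_of_dvd (by omega) (hd.trans e); omega
  · have := Nat.le_of_dvd (by omega) (hd.trans e)
    omega
  · rw [e] at hd
    rcases (Nat.dvd_prime hp.out).mp hd with e' | e' <;> omega

end CfsgLib.PGL2Spectrum
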